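import Mathlib

/-!
# The coefficients of powers of the Todd series
-/

set_option autoImplicit false

namespace Groth.Agent.ToddSeriesLib

open PowerSeries

local notation "E" => PowerSeries.exp ℚ

/-- The exponential of `-X`. -/
noncomputable abbrev Eneg : PowerSeries ℚ := rescale (-1 : ℚ) (PowerSeries.exp ℚ)

theorem exp_mul_Eneg : E * Eneg = 1 := by
  have h := PowerSeries.exp_mul_exp_eq_exp_add (A := ℚ) 1 (-1)
  simpa using h

theorem derivative_Eneg : PowerSeries.derivative ℚ Eneg = -Eneg := by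
  ext n
  rw [coeff_derivative, map_neg, coeff_rescale, coeff_rescale, coeff_exp, coeff_exp]
  simp only [Algebra.algebraMap_self, RingHom.id_apply, Nat.factorial_succ, Nat.cast_mul, Nat.cast_add,
    Nat.cast_one]
  have : (n.factorial : ℚ) ≠ 0 := by exact_mod_cast n.factorial_ne_zero
  have : (n : ℚ) + 1 ≠ 0 := by positivity
  field_simp
  ring

variable {f : PowerSeries ℚ} (hf : f * (E - 1) = X * E)

include hf

theorem mul_one_sub_Eneg : f * (1 - Eneg) = X := by
  have h := congrArg (· * Eneg) hf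
  rw [mul_assoc, mul_assoc, sub_mul, exp_mul_Eneg, one_mul, mul_one] at h
  exact h

theorem constantCoeff_eq_one : constantCoeff f = 1 := by
  have h := congrArg (coeff 1) hf
  rw [coeff_mul, Finset.Nat.sum_antidiagonal_eq_sum_range_succ_mk] at h
  simp [Finset.sum_range_succ, coeff_exp] at h
  exact h

/-- The vanishing of the coefficient of `X^n` in `e^{-X} f^{n+1}` for positive `n`. -/
theorem coeff_Eneg_mul (n : ℕ) (hn : 0 < n) : coeff n (Eneg * f ^ (n + 1)) = 0 := by
  obtain ⟨m, rfl⟩ : ∃ m, n = m + 1 := ⟨n - 1, by omega⟩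
  have hg := congrArg (PowerSeries.derivative ℚ) (mul_one_sub_Eneg hf)
  rw [Derivation.leibniz, map_sub, derivative_Eneg, Derivation.map_one_eq_zero, derivative_X] at hg
  simp only [smul_eq_mul, zero_sub, neg_neg] at hg
  have key : X * PowerSeries.derivative ℚ (f ^ (m + 1)) =
      ((m + 1 : ℕ) : PowerSeries ℚ) * f ^ (m + 1) - ((m + 1 : ℕ) : PowerSeries ℚ) * (Eneg * f ^ (m + 1 + 1)) := by
    rw [derivative_pow, show m + 1 - 1 = m from rfl]
    have hX := mul_one_sub_Eneg hf
    linear_combination (-((m + 1 : ℕ) : PowerSeries ℚ) * f ^ m * PowerSeries.derivative ℚ f) * hX +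
      ((m + 1 : ℕ) : PowerSeries ℚ) * f ^ m * f * hg
  have h := congrArg (coeff (m + 1)) key
  rw [coeff_succ_X_mul, coeff_derivative, map_sub, ← map_natCast (C (R := ℚ)), coeff_C_mul,
    coeff_C_mul] at h
  have : ((m + 1 : ℕ) : ℚ) ≠ 0 := by exact_mod_cast (Nat.succ_ne_zero m)
  push_cast at h this ⊢
  have h' : ((m : ℚ) + 1) * coeff (m + 1) (Eneg * f ^ (m + 1 + 1)) = 0 := by linarith
  exact (mul_eq_zero.1 h').resolve_left this

/-- The value of the coefficients. -/
theorem coeff_eq_choose (n : ℕ) : ∀ m : ℤ,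
    coeff n (rescale (m : ℚ) E * f ^ (n + 1)) = ((Ring.choose (m + n : ℤ) n : ℤ) : ℚ) := by
  induction n with
  | zero =>
    intro m
    rw [zero_add, pow_one, coeff_zero_eq_constantCoeff, map_mul, constantCoeff_eq_one hf, mul_one,
      ← coeff_zero_eq_constantCoeff_apply, coeff_rescale]
    simp
  | succ n ih =>
    have hstep : ∀ m : ℤ, coeff (n + 1) (rescale (m : ℚ) E * f ^ (n + 1 + 1)) =
        coeff (n + 1) (rescale ((m - 1 : ℤ) : ℚ) E * f ^ (n + 1 + 1)) +
          ((Ring.choose (m + n : ℤ) n : ℤ) : ℚ) := by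
      intro m
      have e : rescale ((m - 1 : ℤ) : ℚ) E = rescale (m : ℚ) E * Eneg := by
        rw [PowerSeries.exp_mul_exp_eq_exp_add]; push_cast; rw [sub_eq_add_neg]
      have : rescale (m : ℚ) E * f ^ (n + 1 + 1) =
          rescale ((m - 1 : ℤ) : ℚ) E * f ^ (n + 1 + 1) + X * (rescale (m : ℚ) E * f ^ (n + 1)) := by
        rw [e]
        linear_combination (rescale (m : ℚ) E * f ^ (n + 1)) * mul_one_sub_Eneg hf
      conv_lhs => rw [this, map_add, coeff_succ_X_mul, ih m]
    intro m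
    obtain ⟨j, rfl⟩ : ∃ j : ℤ, m = j - 1 := ⟨m + 1, by ring⟩
    induction j using Int.induction_on with
    | zero =>
      rw [show ((0 - 1 : ℤ) : ℚ) = (-1 : ℚ) by norm_num, coeff_Eneg_mul hf _ (Nat.succ_pos n)]
      rw [show ((0 : ℤ) - 1 + ((n + 1 : ℕ) : ℤ)) = (n : ℤ) by push_cast; ring, Ring.choose_natCast,
        Nat.choose_eq_zero_of_lt (Nat.lt_succ_self n)]
      simp
    | succ i hi =>
      rw [hstep, show ((i : ℤ) + 1 - 1 - 1) = (i : ℤ) - 1 by ring, hi, ← Int.cast_add]
      congr 1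
      rw [show ((i : ℤ) + 1 - 1 + ((n + 1 : ℕ) : ℤ)) = ((i : ℤ) + n) + 1 by push_cast; ring,
        Ring.choose_succ_succ, show ((i : ℤ) - 1 + ((n + 1 : ℕ) : ℤ)) = (i : ℤ) + n by push_cast; ring,
        show ((i : ℤ) + 1 - 1 + (n : ℤ)) = (i : ℤ) + n by ring]
      ring
    | pred i hi =>
      have h := hstep (-(i : ℤ) - 1)
      rw [hi] at h
      have e := eq_sub_of_add_eq h.symm
      rw [e, ← Int.cast_sub]
      congr 1
      rw [show (-(i : ℤ) - 1 + ((n + 1 : ℕ) : ℤ)) = (-(i : ℤ) - 1 + n) + 1 by push_cast; ring,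
        Ring.choose_succ_succ, show (-(i : ℤ) - 1 - 1 + ((n + 1 : ℕ) : ℤ)) = -(i : ℤ) - 1 + n by push_cast; ring]
      ring

theorem coeff_pow_eq_one (n : ℕ) : coeff n (f ^ (n + 1)) = 1 := by
  have h := coeff_eq_choose hf n 0
  rw [Int.cast_zero, rescale_zero] at h
  simpa [Ring.choose_natCast] using h

omit hf

/-- The series is determined by these coefficients. -/
theorem eq_of_coeff_pow {f g : PowerSeries ℚ} (hf : ∀ n, coeff n (f ^ (n + 1)) = 1)
    (hg : ∀ n, coeff n (g ^ (n + 1)) = 1) : f = g := by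
  have h0 : constantCoeff f = 1 ∧ constantCoeff g = 1 := by
    refine ⟨?_, ?_⟩
    · have := hf 0; rwa [zero_add, pow_one, coeff_zero_eq_constantCoeff] at this
    · have := hg 0; rwa [zero_add, pow_one, coeff_zero_eq_constantCoeff] at this
  ext k
  induction k using Nat.strong_induction_on with
  | _ k ih =>
    obtain ⟨d, hd⟩ : X ^ k ∣ f - g := X_pow_dvd_iff.2 fun j hj => by rw [map_sub, ih j hj, sub_self]
    have hpow := geom_sum₂_mul f g (k + 1)
    rw [hd] at hpow
    have h := congrArg (coeff k) hpow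
    rw [map_sub, hf k, hg k, sub_self, mul_left_comm, coeff_X_pow_mul', if_pos le_rfl, Nat.sub_self,
      coeff_zero_eq_constantCoeff, map_mul, map_sum] at h
    simp only [map_mul, map_pow, h0.1, h0.2, one_pow, one_mul, Finset.sum_const, Finset.card_range,
      nsmul_eq_mul, mul_one] at h
    have hk : ((k + 1 : ℕ) : ℚ) ≠ 0 := by exact_mod_cast (Nat.succ_ne_zero k)
    have hd0 : constantCoeff d = 0 := (mul_eq_zero.1 h).resolve_left hk
    have := congrArg (coeff k) hd
    rw [map_sub, coeff_X_pow_mul', if_pos le_rfl, Nat.sub_self, coeff_zero_eq_constantCoeff, hd0] at this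
    exact sub_eq_zero.1 this

theorem exists_todd : ∃ f : PowerSeries ℚ, f * (E - 1) = X * E := by
  obtain ⟨u, hu⟩ : X ∣ E - 1 := X_dvd_iff.2 (by simp)
  have hu0 : constantCoeff u ≠ 0 := by
    have h := congrArg (coeff 1) hu
    rw [coeff_succ_X_mul, coeff_zero_eq_constantCoeff] at h
    rw [← h]
    simp [coeff_exp]
  refine ⟨E * u⁻¹, ?_⟩
  rw [hu, show E * u⁻¹ * (X * u) = X * E * (u⁻¹ * u) by ring, PowerSeries.inv_mul_cancel u hu0, mul_one]

end Groth.Agent.ToddSeriesLib
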